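import Mathlib
import Cfsg.Agent.Lib.helper7.REE.Defs
import Cfsg.Agent.Lib.Helper1.RESFIT
import Cfsg.Agent.Lib.Helper1.REST3
import Cfsg.Agent.Lib.Helper1.RESTRcore
import Cfsg.Agent.Lib.Helper16.REST2
import Cfsg.Agent.Lib.Helper21.REEG8Ccore
import Cfsg.Agent.Lib.Helper1.REEG1
import Cfsg.Agent.Lib.Helper1.REEG8
import Cfsg.Agent.Lib.Helper13.REEG4I
import Cfsg.Agent.Lib.Helper13.REEG4J
import Cfsg.Agent.Lib.Helper29.REEG5G
import Cfsg.Agent.Lib.Helper29.REEG5D
import Cfsg.Agent.Lib.helper3.REEG7F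
import Cfsg.Agent.Lib.Helper10.REEG7B

/-! # Project RES (lead): MAIN.

`res_hall` is an own-name copy of the statement of REE row G8C (`hall_subgroups`), obtained from
helper21's core and helper1's own-name copy of G7D; `res_odd_case` is row TR (`odd_case`) under an
own name, from helper1's core.  `res_main` is S2361 on the abstract `ReeAx`. -/

set_option autoImplicit false
set_option linter.unusedVariables false

namespace Cfsg.Agent.Lib.Lead.RES

open Matrix Cfsg.Agent.Lib.helper8 Cfsg.Agent.Lib.helper7.REE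

universe u v

variable {G : Type u} [Group G] [Finite G] {K : Type v} [Field K] [Fintype K] {m : ℕ}

/-- own-name copy of REE G8C -/
theorem res_hall (R : ReeAx G K m) :
    ∀ kn ∈ ({((qq m - 1) / 2, 2 * (qq m - 1)), ((qq m + 1) / 4, 6 * (qq m + 1)),
        (qq m - rr m + 1, 6 * (qq m - rr m + 1)),
        (qq m + rr m + 1, 6 * (qq m + rr m + 1))} : Set (ℕ × ℕ)),
      ∃ A : Subgroup G, IsCyclic A ∧ Nat.card A = kn.1 ∧
        Nat.card (Subgroup.normalizer (A : Set G)) = kn.2 ∧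
        ∀ A₀ : Subgroup G, A₀ ≤ A → A₀ ≠ ⊥ →
          Subgroup.normalizer (A₀ : Set G) = Subgroup.normalizer (A : Set G) :=
  R.hall_subgroups_core R.NH_basic R.H_TI R.A1_basic R.E_basic R.E_TI R.NV_basic R.ward
    R.tor_cyclic R.reeg8_tor_hall

/-- row TR under an own name -/
theorem res_odd_case (R : ReeAx G K m) (r : ℕ) (hr : r.Prime) (hr3 : 3 < r) (M : Subgroup G)
    (hM : IsPGroup r M) (hne : M ≠ ⊥) :
    ∃ A : Subgroup G, IsCyclic A ∧
      (Nat.card A = (qq m - 1) / 2 ∨ Nat.card A = (qq m + 1) / 4 ∨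
        Nat.card A = qq m - rr m + 1 ∨ Nat.card A = qq m + rr m + 1) ∧
      ∀ g : G, (∀ x ∈ M, g * x * g⁻¹ ∈ M) → g ∈ Subgroup.normalizer (A : Set G) :=
  restr_core R (res_hall R) r hr hr3 M hM hne

/-- MAIN -/
theorem res_main (R : ReeAx G K m) (S : Subgroup G) (hS : Group.IsSolvable S) :
    ∃ A : Subgroup G, S ≤ Subgroup.normalizer (A : Set G) ∧
      ((∃ P : Sylow 2 G, A = P) ∨ (∃ P : Sylow 3 G, A = P) ∨
       (IsCyclic A ∧ (Nat.card A = (qq m - 1) / 2 ∨ Nat.card A = (qq m + 1) / 4 ∨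
          Nat.card A = qq m - rr m + 1 ∨ Nat.card A = qq m + rr m + 1))) := by
  classical
  by_cases hbot : S = ⊥
  · obtain ⟨P⟩ : Nonempty (Sylow 2 G) := inferInstance
    exact ⟨P, by rw [hbot]; exact bot_le, Or.inl ⟨P, rfl⟩⟩
  · rcases fit_sub S hS hbot with ⟨r, hr, hr2, M, hMS, hMne, hMp, hMn⟩ | ⟨Q, hQS, hQne, hQ2, hQn, hQc⟩
    · by_cases h3 : r = 3
      · subst h3
        obtain ⟨P, hP⟩ := three_case R M hMp hMne
        exact ⟨P, fun s hs => hP s (hMn s hs), Or.inr (Or.inl ⟨P, rfl⟩)⟩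
      · have hr3 : 3 < r := by
          have h2 := hr.two_le
          omega
        obtain ⟨A, hcyc, hcard, hA⟩ := res_odd_case R r hr hr3 M hMp hMne
        exact ⟨A, fun s hs => hA s (hMn s hs), Or.inr (Or.inr ⟨hcyc, hcard⟩)⟩
    · obtain ⟨A, hSA, hA⟩ := two_case R S Q hQS hQne hQ2 hQn hQc
      refine ⟨A, hSA, ?_⟩
      rcases hA with h | ⟨hc, hcard⟩
      · exact Or.inl h
      · exact Or.inr (Or.inr ⟨hc, Or.inr (Or.inl hcard)⟩)

end Cfsg.Agent.Lib.Lead.RES
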